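import Cfsg.Agent.Lib.SmallReeMult.ThreePart
import Cfsg.Agent.Lib.ChevField.Fixed

/-!
# Field automorphisms of the small Ree groups, and their action on the root elements and the torus
-/

set_option autoImplicit false
set_option linter.unusedSectionVars false

namespace CfsgLib.SmallReeAut

open Cfsg.Lie CfsgLib.ChevStr CfsgLib.Twisted CfsgLib.SmallRee CfsgLib.SmallReeMult
open scoped MatrixGroups

variable {K : Type*} [Field K] [Fintype K] [CharP K 3] {m : ℕ}

set_option quotPrecheck false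
local notation "𝔾" => ↥(twistedG2 K (3 ^ m))

omit [Fintype K] [CharP K 3] in
theorem mapGL_word (σ : K ≃+* K) (w : List (ℕ × K)) :
    ChevField.mapGL σ.toRingHom ((coreG2 K).wordGL w) =
      (coreG2 K).wordGL (w.map fun p => (p.1, σ p.2)) := by
  induction w with
  | nil => simp [ChevCore.wordGL_nil]
  | cons p w ih =>
    rw [ChevCore.wordGL_cons, map_mul, ih, List.map_cons, ChevCore.wordGL_cons]
    congr 1
    refine Units.ext ?_
    rw [ChevField.coe_mapGL, ChevCore.coe_xGL, ChevCore.coe_xGL]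
    exact ChevField.x_map σ.toRingHom p.1 p.2

omit [Fintype K] [CharP K 3] in
theorem mapGL_mem (σ : K ≃+* K) {g : GL chevG2.Idx K} (hg : g ∈ twistedG2 K (3 ^ m)) :
    ChevField.mapGL σ.toRingHom g ∈ twistedG2 K (3 ^ m) := by
  have hle : twistedG2 K (3 ^ m) ≤ (twistedG2 K (3 ^ m)).comap (ChevField.mapGL σ.toRingHom) := by
    refine (Subgroup.closure_le _).2 ?_
    rintro g ⟨w, ⟨t, u, v, hw⟩, he⟩
    refine Subgroup.subset_closure ⟨w.map fun p => (p.1, σ p.2), ⟨σ t, σ u, σ v, ?_⟩, ?_⟩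
    · rcases hw with rfl | rfl
      · left; simp [reeWordU]
      · right; simp [reeWordV, reeWordU, ChevalleyDatum.negWord]
    · have e : g = (coreG2 K).wordGL w := Units.ext (by rw [he, ChevCore.coe_wordGL])
      rw [e, mapGL_word, ChevCore.coe_wordGL]
  exact hle hg

/-- The field automorphism of the group. -/
noncomputable def fieldHom (σ : K ≃+* K) : 𝔾 →* 𝔾 :=
  ((ChevField.mapGL σ.toRingHom).comp (twistedG2 K (3 ^ m)).subtype).codRestrict _
    (fun g => mapGL_mem σ g.2)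

omit [Fintype K] [CharP K 3] in
theorem coe_fieldHom (σ : K ≃+* K) (g : 𝔾) :
    ((fieldHom σ g : 𝔾) : GL chevG2.Idx K) = ChevField.mapGL σ.toRingHom g.1 := rfl

/-- Field automorphisms as automorphisms. -/
noncomputable def fieldAut : (K ≃+* K) →* MulAut 𝔾 where
  toFun σ := MonoidHom.toMulEquiv (fieldHom σ) (fieldHom σ.symm)
    (MonoidHom.ext fun g => Subtype.ext (Units.ext (Matrix.ext fun a b => σ.symm_apply_apply _)))
    (MonoidHom.ext fun g => Subtype.ext (Units.ext (Matrix.ext fun a b => σ.apply_symm_apply _)))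
  map_one' := MulEquiv.ext fun g => Subtype.ext (Units.ext (Matrix.ext fun a b => rfl))
  map_mul' σ τ := MulEquiv.ext fun g => Subtype.ext (Units.ext (Matrix.ext fun a b => rfl))

omit [Fintype K] in
theorem fieldAut_uE (σ : K ≃+* K) (t u v : K) :
    fieldAut σ (uE t u v : 𝔾) = uE (σ t) (σ u) (σ v) := Subtype.ext (by
  show ChevField.mapGL σ.toRingHom (uni K m t u v) = uni K m (σ t) (σ u) (σ v)
  rw [uni, uni, mapGL_word]
  simp [reeWordU])

omit [Fintype K] [CharP K 3] in
theorem mapGL_tau (σ : K ≃+* K) (l : Kˣ) :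
    ChevField.mapGL σ.toRingHom (tau K m l) = tau K m (Units.map σ.toRingHom.toMonoidHom l) := by
  set τ : Kˣ →* Kˣ := Units.map σ.toRingHom.toMonoidHom with hτ
  have hc : tauVec K m (τ l) = fun i => τ (tauVec K m l i) := by
    funext i
    by_cases h : i.val = 0 <;>
      simp only [tauVec, MonoidHom.coe_mk, OneHom.coe_mk, h, if_true, if_false, map_mul, map_pow]
  show ChevField.mapGL σ.toRingHom ((coreG2 K).R.torus (tauVec K m l)) =
    (coreG2 K).R.torus (tauVec K m (τ l))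
  rw [hc]
  refine Units.ext (Matrix.ext fun a b => ?_)
  rw [ChevField.coe_mapGL, Matrix.map_apply]
  simp only [RootData.torus, MonoidHom.coe_mk, OneHom.coe_mk]
  rcases eq_or_ne a b with rfl | hab
  · simp [diagHom, RootData.torusChar, hτ, map_prod, map_zpow₀]
  · simp [diagHom, hab]

theorem fieldAut_tE (hn : Fintype.card K = 3 * (3 ^ m * 3 ^ m)) (σ : K ≃+* K) (l : Kˣ) :
    fieldAut σ (tE hn l) = tE hn (Units.map σ.toRingHom.toMonoidHom l) :=
  Subtype.ext (mapGL_tau σ l)

section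

variable (hn : Fintype.card K = 3 * (3 ^ m * 3 ^ m))
include hn

theorem npow_inj {a b : Kˣ} (h : (a : K) ^ (3 * 3 ^ m + 2) = (b : K) ^ (3 * 3 ^ m + 2)) : a = b := by
  suffices key : ∀ l : Kˣ, (l : K) ^ (3 * 3 ^ m + 2) = 1 → l = 1 by
    refine div_eq_one.mp (key (a / b) ?_)
    rw [Units.val_div_eq_div_val, div_pow, h, div_self (pow_ne_zero _ b.ne_zero)]
  intro l h
  have h9 : ((l : K) ^ (3 * 3 ^ m)) ^ (3 * 3 ^ m) = (l : K) ^ 3 := by
    rw [← pow_mul, show 3 * 3 ^ m * (3 * 3 ^ m) = 3 * (3 ^ m * 3 ^ m) * 3 by ring, pow_mul,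
      CfsgLib.SmallRee.pow_q K hn]
  rw [pow_add] at h
  have e' : (l : K) ^ (3 * 3 ^ m) = ((l : K) ^ 2)⁻¹ := eq_inv_of_mul_eq_one_left h
  rw [e', inv_pow, ← pow_mul, mul_comm, pow_mul, e', inv_pow, inv_inv, ← pow_mul] at h9
  have hl0 : (l : K) ^ 3 ≠ 0 := pow_ne_zero _ l.ne_zero
  rw [show (2 * 2 : ℕ) = 3 + 1 from rfl, pow_succ] at h9
  exact Units.ext (mul_left_cancel₀ hl0 (h9.trans (mul_one _).symm))

theorem exists_npow {c : K} (hc : c ≠ 0) : ∃ l : Kˣ, (l : K) ^ (3 * 3 ^ m + 2) = c := by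
  have hinj : Function.Injective fun l : Kˣ => l ^ (3 * 3 ^ m + 2) := fun a b h =>
    npow_inj hn (by simpa using congrArg Units.val h)
  obtain ⟨l, hl⟩ := Finite.injective_iff_surjective.mp hinj (Units.mk0 c hc)
  exact ⟨l, by simpa using congrArg Units.val hl⟩

end

end CfsgLib.SmallReeAut
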