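import Cfsg.Agent.Lib.SmallReeAut.Field
import Cfsg.Prelude.Def_KGroupFacts

/-!
# Every automorphism of a small Ree group is inner times field
-/

set_option autoImplicit false
set_option linter.unusedSectionVars false

namespace CfsgLib.SmallReeAut

open Cfsg.Lie CfsgLib.ChevStr CfsgLib.Twisted CfsgLib.SmallRee CfsgLib.SmallReeMult
open scoped MatrixGroups

variable {K : Type*} [Field K] [Fintype K] [CharP K 3] {m : ℕ}
  (hm : 1 ≤ m) (hn : Fintype.card K = 3 * (3 ^ m * 3 ^ m))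

set_option quotPrecheck false
local notation "𝔾" => ↥(twistedG2 K (3 ^ m))
local notation "U" => (Uin (K := K) (m := m))

theorem uE_mem (t u v : K) : (uE t u v : 𝔾) ∈ U := uni_mem_U1 K m t u v

theorem uE_inj {t u v t' u' v' : K} (h : (uE t u v : 𝔾) = uE t' u' v') : t = t' ∧ u = u' ∧ v = v' :=
  uni_inj K m (congrArg Subtype.val h)

theorem uE_eq_one {t u v : K} : (uE t u v : 𝔾) = 1 ↔ t = 0 ∧ u = 0 ∧ v = 0 :=
  ⟨fun h => (uni_eq_one_iff K m).1 (congrArg Subtype.val h), fun h => Subtype.ext ((uni_eq_one_iff K m).2 h)⟩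

/-- The involution of the torus. -/
noncomputable def iE (hn : Fintype.card K = 3 * (3 ^ m * 3 ^ m)) : 𝔾 := tE hn (-1)

include hn

theorem mem_U_form {g : 𝔾} (hg : g ∈ U) : ∃ t u v, g = uE t u v := by
  obtain ⟨t, u, v, he⟩ := exists_uni K hn hg
  exact ⟨t, u, v, Subtype.ext he.symm⟩

theorem mem_B_form {g : 𝔾} (hg : (g : GL chevG2.Idx K) ∈ B1 K m) :
    ∃ a ∈ U, ∃ l : Kˣ, g = a * tE hn l := by
  obtain ⟨u, hu, h, hh, e⟩ := (mem_B1 hn).1 hg
  obtain ⟨l, rfl⟩ := H1_le K hn hh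
  exact ⟨⟨u, (Subgroup.mem_inf.1 hu).2⟩, hu, l, Subtype.ext e.symm⟩

theorem tE_conj_mem (l : Kˣ) {g : 𝔾} (hg : g ∈ U) : tE hn l * g * (tE hn l)⁻¹ ∈ U :=
  H1_conj_U1' (tau_mem_H1 K hn l) hg

theorem tE_inj {l k : Kˣ} (h : tE hn l = tE hn k) : l = k :=
  tau_injective K m (congrArg Subtype.val h)

theorem tE_one : tE hn (1 : Kˣ) = 1 := Subtype.ext (map_one (tau K m))

theorem tE_pow (l : Kˣ) (n : ℕ) : tE hn l ^ n = tE hn (l ^ n) :=
  Subtype.ext (map_pow (tau K m) l n).symm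

theorem tE_inv (l : Kˣ) : (tE hn l)⁻¹ = tE hn l⁻¹ :=
  Subtype.ext (map_inv (tau K m) l).symm

theorem decomp_unique {a a' : 𝔾} (ha : a ∈ U) (ha' : a' ∈ U) {l l' : Kˣ}
    (e : a * tE hn l = a' * tE hn l') : a = a' ∧ l = l' := by
  obtain ⟨e1, e2⟩ := B1_unique hn ha ha' (tau_mem_H1 K hn l) (tau_mem_H1 K hn l') (congrArg Subtype.val e)
  exact ⟨Subtype.ext e1, tau_injective K m e2⟩

/-- Torus elements of order above two fix no non-trivial unipotent element. -/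
theorem eq_one_of_fixed {l : Kˣ} {a : 𝔾} (ha : a ∈ U) (he : tE hn l * a * (tE hn l)⁻¹ = a)
    (hl : l ≠ 1) (hl' : l ≠ -1) : a = 1 := by
  obtain ⟨t, u, v, rfl⟩ := mem_U_form hn ha
  rw [tE_conj] at he
  obtain ⟨e1, e2, e3⟩ := uE_inj he
  have ht : t = 0 := by
    by_contra h
    exact hl (Units.ext (mul_right_cancel₀ h (e1.trans (one_mul t).symm)))
  have hv : v = 0 := by
    by_contra h
    refine hl (npow_inj hn ?_)
    rw [Units.val_one, one_pow]
    exact mul_right_cancel₀ h (e3.trans (one_mul v).symm)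
  have hu : u = 0 := by
    by_contra h
    have e : (l : K) ^ (3 * 3 ^ m + 1) = 1 := mul_right_cancel₀ h (e2.trans (one_mul u).symm)
    have h9 : ((l : K) ^ (3 * 3 ^ m)) ^ (3 * 3 ^ m) = (l : K) ^ 3 := by
      rw [← pow_mul, show 3 * 3 ^ m * (3 * 3 ^ m) = 3 * (3 ^ m * 3 ^ m) * 3 by ring, pow_mul,
        CfsgLib.SmallRee.pow_q K hn]
    have e' : (l : K) ^ (3 * 3 ^ m) = (l : K)⁻¹ := eq_inv_of_mul_eq_one_left (by rw [← pow_succ, e])
    rw [e', inv_pow, e', inv_inv] at h9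
    have hsq : (l : K) ^ 2 = 1 := mul_left_cancel₀ l.ne_zero (by rw [mul_one, ← pow_succ', ← h9])
    rcases sq_eq_one_iff.1 hsq with h | h
    · exact hl (Units.ext h)
    · exact hl' (Units.ext (by rw [Units.val_neg, Units.val_one]; exact h))
  rw [ht, hu, hv, uE_zero]

theorem cube_eq_one_iff {t u v : K} : (uE t u v : 𝔾) ^ 3 = 1 ↔ t = 0 := by
  have e : (uE t u v : 𝔾) ^ 3 = uE 0 0 (-t ^ (3 * 3 ^ m + 2)) := Subtype.ext (uni_cube K hn t u v)
  rw [e, uE_eq_one]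
  constructor
  · rintro ⟨-, -, h⟩
    exact pow_eq_zero_iff (by omega) |>.1 (neg_eq_zero.1 h)
  · rintro rfl
    simp

theorem cube_eq {t u v : K} :
    (uE t u v : 𝔾) ^ 3 = uE 0 0 (-t ^ (3 * 3 ^ m + 2)) := Subtype.ext (uni_cube K hn t u v)

theorem exists_root (c : K) : ∃ s : K, c = -s ^ (3 * 3 ^ m + 2) := by
  rcases eq_or_ne c 0 with rfl | hc
  · exact ⟨0, by simp⟩
  · obtain ⟨l, hl⟩ := exists_npow hn (neg_ne_zero.2 hc)
    exact ⟨l, by rw [hl, neg_neg]⟩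

include hm

theorem exists_big : ∃ l : Kˣ, (∀ k : Kˣ, k ∈ Subgroup.zpowers l) ∧ l * l ≠ 1 := by
  obtain ⟨l, hl⟩ := IsCyclic.exists_generator (α := Kˣ)
  refine ⟨l, hl, fun h => ?_⟩
  have h2 : orderOf l ∣ 2 := orderOf_dvd_of_pow_eq_one (by rw [pow_two]; exact h)
  have h3 : orderOf l = Fintype.card K - 1 := by
    rw [orderOf_eq_card_of_forall_mem_zpowers hl, Nat.card_units, Nat.card_eq_fintype_card]
  have : 3 ^ 1 ≤ 3 ^ m := Nat.pow_le_pow_right (by norm_num) hm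
  have h9 : 3 * 3 ≤ 3 ^ m * 3 ^ m := Nat.mul_le_mul (by simpa using this) (by simpa using this)
  have := Nat.le_of_dvd Nat.two_pos h2
  omega

/-- An automorphism stabilising `U` and fixing the torus and `U(0,0,K)` is trivial. -/
theorem aut_eq_one (β : MulAut 𝔾) (hU : ∀ a ∈ U, β a ∈ U) (hT : ∀ l, β (tE hn l) = tE hn l)
    (hZ : ∀ v, β (uE 0 0 v) = uE 0 0 v) : β = 1 := by
  classical
  have hmid : ∀ u, ∃ f, β (uE 0 u 0) = uE 0 f 0 := by
    intro u
    obtain ⟨t, f, v, he⟩ := mem_U_form hn (hU _ (uE_mem 0 u 0))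
    have hcm : Commute (iE hn) (uE 0 u 0 : 𝔾) := by
      show iE hn * _ = _
      have := tE_conj hn (-1) (0 : K) u 0
      rw [mul_zero, mul_zero, mul_inv_eq_iff_eq_mul] at this
      rw [iE, this]
      congr 2
      rw [pow_succ, pow_mul, Units.val_neg, Units.val_one, Odd.neg_one_pow (show Odd 3 by decide),
        three_pow_odd, neg_mul_neg, one_mul, one_mul]
    have h2 := hcm.map β.toMonoidHom
    simp only [MulEquiv.coe_toMonoidHom, iE, hT] at h2
    rw [he] at h2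
    obtain ⟨h0, h1⟩ := (commute_invol_uni_iff hn (t := t) (u := f) (v := v)).1 (congrArg Subtype.val h2)
    exact ⟨f, by rw [he, h0, h1]⟩
  choose f hf using hmid
  have h00 : ∀ t, ∃ a b, β (uE t 0 0) = uE t 0 0 * uE 0 a b := by
    intro t
    obtain ⟨t', a, b, he⟩ := mem_U_form hn (hU _ (uE_mem t 0 0))
    have h3 := congrArg β (cube_eq hn (t := t) (u := (0 : K)) (v := 0))
    rw [map_pow, he, hZ, cube_eq hn] at h3
    have hp : t' ^ (3 * 3 ^ m + 2) = t ^ (3 * 3 ^ m + 2) := neg_injective (uE_inj h3).2.2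
    have ht' : t' = t := by
      rcases eq_or_ne t 0 with rfl | ht
      · rw [zero_pow (by omega)] at hp
        exact pow_eq_zero_iff (by omega) |>.1 hp
      · have ht0 : t' ≠ 0 := fun h => by
          rw [h, zero_pow (by omega)] at hp
          exact pow_ne_zero _ ht hp.symm
        exact congrArg Units.val
          (npow_inj hn (a := Units.mk0 t' ht0) (b := Units.mk0 t ht) hp)
    subst ht'
    have hmem : (uE t' 0 0 : 𝔾)⁻¹ * β (uE t' 0 0) ∈ U := mul_mem (inv_mem (uE_mem _ _ _)) (hU _ (uE_mem _ _ _))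
    obtain ⟨a', b', he'⟩ := exists_coords hn hmem
    have hfst : fstC ((uE t' 0 0 : 𝔾)⁻¹ * β (uE t' 0 0)) = 0 := by
      have h := fstC_mul (uE_mem t' 0 0) hmem hn
      rw [mul_inv_cancel_left] at h
      nth_rewrite 1 [he] at h
      rw [fstC_uE, fstC_uE] at h
      exact add_eq_left.1 h.symm
    rw [hfst] at he'
    exact ⟨a', b', by rw [← he', mul_inv_cancel_left]⟩
  choose A B hAB using h00
  have hswap : ∀ t u, (uE t 0 0 : 𝔾) * uE 0 u 0 = uE 0 u 0 * uE t 0 0 * uE 0 0 (t * u) :=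
    fun t u => Subtype.ext (CfsgLib.ReeDeg.swap hn t u)
  have hswap' : ∀ t a b, (uE 0 a b : 𝔾) * uE t 0 0 = uE t 0 0 * uE 0 a (b - t * a) := by
    intro t a b
    have h1 : (uE 0 a b : 𝔾) = uE 0 a 0 * uE 0 0 b := by rw [uE_mid_add, add_zero, zero_add]
    have h2 : (uE 0 a (b - t * a) : 𝔾) = uE 0 a 0 * (uE 0 0 b * (uE 0 0 (t * a))⁻¹) := by
      rw [← mul_assoc, ← h1, eq_mul_inv_iff_mul_eq, uE_mid_add, add_zero, sub_add_cancel]
    rw [h1, h2, ← mul_assoc (uE t 0 0 : 𝔾), hswap, mul_assoc (uE 0 a 0 : 𝔾), ← (uE_top_central b t 0 0).eq]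
    have hc : Commute (uE 0 0 (t * a) : 𝔾) (uE 0 0 b) := uE_top_central b 0 0 _
    calc (uE 0 a 0 : 𝔾) * (uE t 0 0 * uE 0 0 b)
        = uE 0 a 0 * uE t 0 0 * (uE 0 0 b * uE 0 0 (t * a) * (uE 0 0 (t * a))⁻¹) := by
          rw [mul_inv_cancel_right, mul_assoc]
      _ = _ := by rw [← hc.eq]; group
  have hfid : ∀ u, f u = u := by
    intro u
    have h := congrArg β (hswap 1 u)
    rw [map_mul, map_mul, map_mul, hAB, hf, hZ, mul_assoc _ (uE 0 (A 1) (B 1)), uE_mid_add,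
      add_comm (A 1), add_comm (B 1), ← uE_mid_add, ← mul_assoc, hswap] at h
    have h' : (uE 0 (f u) 0 : 𝔾) * uE 1 0 0 * uE 0 0 (1 * f u) * uE 0 (A 1) (B 1) =
        uE 0 (f u) 0 * uE 1 0 0 * uE 0 0 (1 * u) * uE 0 (A 1) (B 1) := by
      rw [h, show (uE 0 (f u) 0 : 𝔾) * (uE 1 0 0 * uE 0 (A 1) (B 1)) * uE 0 0 (1 * u) =
        uE 0 (f u) 0 * uE 1 0 0 * (uE 0 (A 1) (B 1) * uE 0 0 (1 * u)) by group,
        mul_assoc _ (uE 0 0 (1 * u)), uE_mid_add, uE_mid_add, add_comm (A 1), add_comm (B 1)]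
    simpa using (uE_inj (mul_left_cancel (mul_right_cancel h'))).2.2
  have hmidfix : ∀ a b, β (uE 0 a b) = uE 0 a b := by
    intro a b
    rw [show (uE 0 a b : 𝔾) = uE 0 a 0 * uE 0 0 b by rw [uE_mid_add, add_zero, zero_add], map_mul,
      hf, hfid, hZ]
  -- `A` and `B` are equivariant
  have hABl : ∀ (l : Kˣ) t, A (l * t) = (l : K) ^ (3 * 3 ^ m + 1) * A t ∧
      B (l * t) = (l : K) ^ (3 * 3 ^ m + 2) * B t := by
    intro l t
    have h := congrArg β (tE_conj hn l t 0 0)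
    rw [mul_zero, mul_zero, map_mul, map_mul, map_inv, hT, hAB, hAB, ← conj_mul, tE_conj, tE_conj,
      mul_zero, mul_zero, mul_zero] at h
    obtain ⟨-, e1, e2⟩ := uE_inj (mul_left_cancel h)
    exact ⟨e1.symm, e2.symm⟩
  have hsum : ∀ t s, A (t + s) = A t + A s ∧ B (t + s) = B t + B s - s * A t := by
    intro t s
    obtain ⟨u₀, v₀, he⟩ := exists_coords hn (mul_mem (uE_mem t 0 0) (uE_mem s 0 0) : (uE t 0 0 : 𝔾) * uE s 0 0 ∈ U)
    rw [fstC_mul (uE_mem _ _ _) (uE_mem _ _ _) hn, fstC_uE, fstC_uE] at he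
    have hmem : (uE (t + s) 0 0 : 𝔾)⁻¹ * uE (t + s) u₀ v₀ ∈ U := mul_mem (inv_mem (uE_mem _ _ _)) (uE_mem _ _ _)
    obtain ⟨a₁, b₁, he₁⟩ := exists_coords hn hmem
    have hfst : fstC ((uE (t + s) 0 0 : 𝔾)⁻¹ * uE (t + s) u₀ v₀) = 0 := by
      have h := fstC_mul (uE_mem (t + s) 0 0) hmem hn
      rw [mul_inv_cancel_left, fstC_uE, fstC_uE] at h
      exact add_eq_left.1 h.symm
    rw [hfst, inv_mul_eq_iff_eq_mul] at he₁
    rw [he₁] at he
    have h := congrArg β he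
    rw [map_mul, map_mul, hAB, hAB, hAB, hmidfix] at h
    have h' : (uE t 0 0 : 𝔾) * uE s 0 0 * (uE 0 (A t) (B t - s * A t) * uE 0 (A s) (B s)) =
        uE t 0 0 * uE s 0 0 * uE 0 (A (t + s)) (B (t + s)) := by
      rw [show (uE t 0 0 : 𝔾) * uE s 0 0 * (uE 0 (A t) (B t - s * A t) * uE 0 (A s) (B s)) =
        uE t 0 0 * (uE s 0 0 * uE 0 (A t) (B t - s * A t)) * uE 0 (A s) (B s) by group,
        ← hswap', ← mul_assoc (uE t 0 0 : 𝔾), mul_assoc (uE t 0 0 * uE 0 (A t) (B t) : 𝔾), h, he,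
        mul_assoc _ (uE 0 (A (t + s)) (B (t + s))), mul_assoc _ (uE 0 a₁ b₁), uE_mid_add, uE_mid_add,
        add_comm a₁, add_comm b₁]
    rw [uE_mid_add] at h'
    obtain ⟨-, e1, e2⟩ := uE_inj (mul_left_cancel h')
    exact ⟨e1.symm, by rw [← e2]; ring⟩
  have hA : ∀ t, A t = 0 := by
    intro t
    have h1 := (hsum t t).1
    have h2 := (hABl (-1) t).1
    rw [show t + t = -t by linear_combination t * (CharP.cast_eq_zero K 3)] at h1
    rw [Units.val_neg, Units.val_one, neg_one_mul, h1, pow_succ, pow_mul,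
      Odd.neg_one_pow (show Odd 3 by decide), three_pow_odd, neg_mul_neg, one_mul, one_mul] at h2
    linear_combination h2
  have hBn : ∀ s, s ≠ 0 → B s = s ^ (3 * 3 ^ m + 2) * B 1 := fun s hs => by
    have h := (hABl (Units.mk0 s hs) 1).2
    rwa [Units.val_mk0, mul_one] at h
  obtain ⟨x₀, -, hx₀⟩ := exists_big hm hn
  have hB : ∀ t, B t = 0 := by
    have hadd : ∀ t s, B (t + s) = B t + B s := fun t s => by rw [(hsum t s).2, hA]; ring
    have hB0 : B 0 = 0 := by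
      have h := hadd 0 0
      rw [add_zero] at h
      exact add_eq_left.1 h.symm
    set θ : K →+* K := iterateFrobenius K 3 (m + 1)
    have hθ : ∀ x, θ x = x ^ (3 * 3 ^ m) := fun x => by
      show iterateFrobenius K 3 (m + 1) x = _
      rw [iterateFrobenius_def, pow_succ']
    have hθ2 : ∀ x, θ (θ x) = x ^ 3 := fun x => by
      rw [hθ, hθ, ← pow_mul, show 3 * 3 ^ m * (3 * 3 ^ m) = 3 * (3 ^ m * 3 ^ m) * 3 by ring, pow_mul,
        CfsgLib.SmallRee.pow_q K hn]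
    suffices h1 : B 1 = 0 by
      intro t
      rcases eq_or_ne t 0 with rfl | ht
      · exact hB0
      · rw [hBn t ht, h1, mul_zero]
    by_contra hB1
    set x : K := (x₀ : K) with hxdef
    have hx0 : x ≠ 0 := x₀.ne_zero
    have hx1 : x ≠ 1 := fun h => hx₀ (Units.ext (by rw [Units.val_mul, ← hxdef, h, mul_one, Units.val_one]))
    have hxm : x ≠ -1 := fun h => hx₀ (Units.ext (by rw [Units.val_mul, ← hxdef, h, neg_one_mul, neg_neg, Units.val_one]))
    have hxs : x + 1 ≠ 0 := fun h => hxm (eq_neg_of_add_eq_zero_left h)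
    have h := hadd x 1
    have hn2 : ∀ y : K, y ^ (3 * 3 ^ m + 2) = θ y * y ^ 2 := fun y => by rw [hθ, pow_add]
    rw [hBn _ hxs, hBn _ hx0, hn2, hn2, map_add, map_one] at h
    have h3 : (3 : K) = 0 := CharP.cast_eq_zero K 3
    have e : (θ x - x) * (1 - x) = 0 := by
      have h' : ((θ x + 1) * (x + 1) ^ 2 - θ x * x ^ 2 - 1) * B 1 = 0 := by linear_combination h
      have h'' := (mul_eq_zero.1 h').resolve_right hB1
      linear_combination h'' - (θ x * x + x) * h3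
    have e' : θ x = x := sub_eq_zero.1 ((mul_eq_zero.1 e).resolve_right (sub_ne_zero.2 (Ne.symm hx1)))
    have e2 : x ^ 3 = x := by rw [← hθ2, e', e']
    have e3 : x * ((x - 1) * (x + 1)) = 0 := by linear_combination e2
    rcases mul_eq_zero.1 e3 with h | h
    · exact hx0 h
    · rcases mul_eq_zero.1 h with h | h
      · exact hx1 (sub_eq_zero.1 h)
      · exact hxs h
  have hfixU : ∀ a ∈ U, β a = a := by
    intro a ha
    obtain ⟨u, v, he⟩ := exists_coords hn ha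
    have hmem : (uE (fstC a) 0 0 : 𝔾)⁻¹ * a ∈ U := mul_mem (inv_mem (uE_mem _ _ _)) ha
    obtain ⟨a₁, b₁, he₁⟩ := exists_coords hn hmem
    have hfst : fstC ((uE (fstC a) 0 0 : 𝔾)⁻¹ * a) = 0 := by
      have h := fstC_mul (uE_mem (fstC a) 0 0) hmem hn
      rw [mul_inv_cancel_left, fstC_uE] at h
      exact add_eq_left.1 h.symm
    rw [hfst, inv_mul_eq_iff_eq_mul] at he₁
    rw [he₁, map_mul, hAB, hA, hB, uE_zero, mul_one, hmidfix]
  -- the Weyl element
  set s : 𝔾 := ⟨sRee hn, sRee_mem hn⟩ with hs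
  have hsT : ∀ l, ∃ k, s * tE hn l * s⁻¹ = tE hn k := fun l => by
    obtain ⟨k, hk⟩ := H1_le K hn (sRee_conj_H1 hn (tau_mem_H1 K hn l)).1
    exact ⟨k, Subtype.ext hk.symm⟩
  obtain ⟨y, -, hy⟩ := exists_big hm hn
  obtain ⟨y', hy'⟩ := hsT y
  have hy'2 : y' ≠ 1 ∧ y' ≠ -1 := by
    have hne : tE hn y' * tE hn y' ≠ 1 := by
      rw [← hy', show s * tE hn y * s⁻¹ * (s * tE hn y * s⁻¹) = s * (tE hn y * tE hn y) * s⁻¹ by group,
        tE_mul]
      intro h
      exact hy (tE_inj hn ((conj_eq_one_iff.1 h).trans (tE_one hn).symm))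
    exact ⟨fun h => hne (by rw [h, tE_mul, mul_one, tE_one]),
      fun h => hne (by rw [h, tE_mul, neg_mul_neg, mul_one, tE_one])⟩
  have hconj : β s * tE hn y * (β s)⁻¹ = tE hn y' := by
    rw [← hT y', ← hy', map_mul, map_mul, map_inv, hT]
  obtain ⟨d, hd⟩ : ∃ d : Kˣ, β s = tE hn d * s := by
    rcases bruhat hn (β s).2 with hB' | ⟨a, ha, h, hh, b, hb, e⟩
    · obtain ⟨a, ha, l, e⟩ := mem_B_form hn hB'
      exfalso
      have : s = a * tE hn l := β.injective (by rw [e, map_mul, hfixU a ha, hT])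
      exact sRee_not_mem_B1 hn (by
        rw [show sRee hn = (s : GL chevG2.Idx K) from rfl, this]
        exact mul_mem (U1_le_B1 ha) (H1_le_B1 (tau_mem_H1 K hn l)))
    · obtain ⟨d, rfl⟩ := H1_le K hn hh
      have e' : β s = (⟨a, (Subgroup.mem_inf.1 ha).2⟩ : 𝔾) * tE hn d * s * ⟨b, (Subgroup.mem_inf.1 hb).2⟩ :=
        Subtype.ext e
      generalize hA' : (⟨a, (Subgroup.mem_inf.1 ha).2⟩ : 𝔾) = A' at e'
      generalize hB2 : (⟨b, (Subgroup.mem_inf.1 hb).2⟩ : 𝔾) = B' at e'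
      have hA'U : A' ∈ U := hA' ▸ ha
      have hB'U : B' ∈ U := hB2 ▸ hb
      have key : A' * tE hn (d * y') * s * (tE hn y⁻¹ * B' * (tE hn y⁻¹)⁻¹) =
          tE hn y' * A' * (tE hn y')⁻¹ * tE hn (y' * d) * s * B' := by
        rw [← tE_mul, ← tE_mul, ← hy', ← tE_inv, inv_inv,
          show A' * (tE hn d * (s * tE hn y * s⁻¹)) * s * ((tE hn y)⁻¹ * B' * tE hn y) =
            (A' * tE hn d * s * B') * tE hn y by group, ← e', hy', ← hconj, e']
        group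
      obtain ⟨k1, -, k3⟩ := bruhat_unique hn hA'U (tE_conj_mem hn y' hA'U) (tau_mem_H1 K hn _)
        (tau_mem_H1 K hn _) (tE_conj_mem hn y⁻¹ hB'U) hB'U (congrArg Subtype.val key)
      have hA1 : A' = 1 := eq_one_of_fixed hn hA'U (Subtype.ext k1.symm) hy'2.1 hy'2.2
      have hB1 : B' = 1 := eq_one_of_fixed hn hB'U (Subtype.ext k3)
        (fun h => hy (by rw [inv_eq_one.1 h, mul_one]))
        (fun h => hy (by rw [inv_eq_iff_eq_inv.1 h, inv_neg, inv_one, neg_mul_neg, one_mul]))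
      exact ⟨d, by rw [e', hA1, hB1, one_mul, mul_one]⟩
  set u : 𝔾 := uE 0 0 1 with hu
  set y₀ : 𝔾 := s * u * s⁻¹ with hy₀
  have hyB : (y₀ : GL chevG2.Idx K) ∉ B1 K m := by
    intro h
    have h1 := B1_inf_neg (Subgroup.mem_inf.1 h).1 (sRee_conj_pos hn (Subgroup.mem_inf.1 (uni_mem_U1 K m 0 0 1)).1)
    exact one_ne_zero ((uni_eq_one_iff K m).1 (conj_eq_one_iff.1 h1)).2.2
  rcases bruhat hn y₀.2 with hB' | ⟨a, ha, h, hh, b, hb, e⟩
  · exact absurd hB' hyB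
  obtain ⟨k, rfl⟩ := H1_le K hn hh
  have e' : y₀ = (⟨a, (Subgroup.mem_inf.1 ha).2⟩ : 𝔾) * tE hn k * s * ⟨b, (Subgroup.mem_inf.1 hb).2⟩ :=
    Subtype.ext e
  generalize hA' : (⟨a, (Subgroup.mem_inf.1 ha).2⟩ : 𝔾) = A' at e'
  generalize hB2 : (⟨b, (Subgroup.mem_inf.1 hb).2⟩ : 𝔾) = B' at e'
  have hA'U : A' ∈ U := hA' ▸ ha
  have hB'U : B' ∈ U := hB2 ▸ hb
  obtain ⟨d', hd'⟩ := hsT d⁻¹
  have key : A' * tE hn (k * d) * s * B' =
      tE hn d * A' * (tE hn d)⁻¹ * tE hn (d * (k * d')) * s * (tE hn d * B' * (tE hn d)⁻¹) := by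
    have h1 : β y₀ = A' * tE hn (k * d) * s * B' := by
      rw [e', map_mul, map_mul, map_mul, hfixU A' hA'U, hfixU B' hB'U, hT, hd, ← tE_mul]
      group
    have h2 : β y₀ = tE hn d * y₀ * (tE hn d)⁻¹ := by
      rw [hy₀, map_mul, map_mul, map_inv, hfixU u (uE_mem 0 0 1), hd]
      group
    rw [← h1, h2, e', ← tE_mul, ← tE_mul, ← hd', ← tE_inv]
    group
  obtain ⟨k1, -, -⟩ := bruhat_unique hn hA'U (tE_conj_mem hn d hA'U) (tau_mem_H1 K hn _)
    (tau_mem_H1 K hn _) hB'U (tE_conj_mem hn d hB'U) (congrArg Subtype.val key)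
  have hfix : tE hn d * A' * (tE hn d)⁻¹ = A' := Subtype.ext k1.symm
  have hd1 : d = 1 := by
    by_contra hd1
    -- the involution cannot fix the first factor
    have hiA : Commute (iE hn) A' := by
      rcases eq_or_ne d (-1) with rfl | hdm
      · exact mul_inv_eq_iff_eq_mul.1 hfix
      · rw [eq_one_of_fixed hn hA'U hfix hd1 hdm]; exact Commute.one_right _
    have his : Commute (iE hn) s := Subtype.ext (commute_invol_sRee hn).eq
    have hiu : iE hn * u * (iE hn)⁻¹ = u⁻¹ := by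
      rw [iE, tE_conj, mul_zero, mul_zero]
      refine eq_inv_of_mul_eq_one_left ?_
      rw [uE_mid_add, add_zero, ← uE_zero (K := K) (m := m)]
      congr 1
      rw [pow_succ, pow_succ, pow_mul, Units.val_neg, Units.val_one, Odd.neg_one_pow (show Odd 3 by decide),
        three_pow_odd]
      ring
    have hiy : iE hn * y₀ * (iE hn)⁻¹ = y₀⁻¹ := by
      rw [hy₀, show iE hn * (s * u * s⁻¹) * (iE hn)⁻¹ =
        (iE hn * s) * u * (iE hn * s)⁻¹ by group, his.eq,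
        show s * iE hn * u * (s * iE hn)⁻¹ = s * (iE hn * u * (iE hn)⁻¹) * s⁻¹ by group, hiu]
      group
    obtain ⟨k', hk'⟩ := hsT k⁻¹
    obtain ⟨k'', hk''⟩ := H1_le K hn (sRee_sq_mem hn)
    obtain ⟨k₃, hk₃⟩ := hsT k''⁻¹
    have hss : s * s = tE hn k'' := Subtype.ext hk''.symm
    have hik : Commute (iE hn) (tE hn k) := by
      show _ * _ = _ * _
      rw [iE, tE_mul, tE_mul, mul_comm]
    have key2 : A' * tE hn k * s * (iE hn * B' * (iE hn)⁻¹) = B'⁻¹ * tE hn (k''⁻¹ * k') * s * A'⁻¹ := by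
      have l1 : iE hn * y₀ * (iE hn)⁻¹ = A' * tE hn k * s * (iE hn * B' * (iE hn)⁻¹) := by
        rw [e', show iE hn * (A' * tE hn k * s * B') * (iE hn)⁻¹ =
          (iE hn * A') * tE hn k * s * B' * (iE hn)⁻¹ by group, hiA.eq,
          show A' * iE hn * tE hn k * s * B' * (iE hn)⁻¹ = A' * (iE hn * tE hn k) * s * B' * (iE hn)⁻¹ by group,
          hik.eq, show A' * (tE hn k * iE hn) * s * B' * (iE hn)⁻¹ = A' * tE hn k * (iE hn * s) * B' * (iE hn)⁻¹ by group,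
          his.eq]
        group
      rw [← l1, hiy, e', ← tE_mul, ← tE_inv, ← hk', ← hss, ← tE_inv]
      group
    obtain ⟨m1, -, -⟩ := bruhat_unique hn hA'U (inv_mem hB'U) (tau_mem_H1 K hn _) (tau_mem_H1 K hn _)
      (tE_conj_mem hn (-1) hB'U) (inv_mem hA'U) (congrArg Subtype.val key2)
    have hBA : B' = A'⁻¹ := by rw [show A' = B'⁻¹ from Subtype.ext m1, inv_inv]
    have hiy' : Commute (iE hn) y₀ := by
      rw [e', hBA]
      exact ((hiA.mul_right hik).mul_right his).mul_right hiA.inv_right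
    rw [mul_inv_eq_iff_eq_mul, hiy'.eq] at hiy
    have hy1 : y₀ = y₀⁻¹ := mul_right_cancel hiy
    have hu2 : u * u = 1 := by
      have : y₀ * y₀ = 1 := by nth_rewrite 1 [hy1]; exact inv_mul_cancel _
      rw [hy₀, show s * u * s⁻¹ * (s * u * s⁻¹) = s * (u * u) * s⁻¹ by group, conj_eq_one_iff] at this
      exact this
    rw [hu, uE_mid_add, add_zero, uE_eq_one] at hu2
    exact one_ne_zero (show (1 : K) = 0 by linear_combination (CharP.cast_eq_zero K 3 : (3 : K) = 0) - hu2.2.2)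
  rw [hd1, tE_one, one_mul] at hd
  refine MulEquiv.ext fun g => ?_
  show β g = g
  rcases bruhat hn g.2 with hB' | ⟨a, ha, h, hh, b, hb, e⟩
  · obtain ⟨a, ha, l, rfl⟩ := mem_B_form hn hB'
    rw [map_mul, hfixU a ha, hT]
  · obtain ⟨l, rfl⟩ := H1_le K hn hh
    have e2 : g = (⟨a, (Subgroup.mem_inf.1 ha).2⟩ : 𝔾) * tE hn l * s * ⟨b, (Subgroup.mem_inf.1 hb).2⟩ :=
      Subtype.ext e
    rw [e2, map_mul, map_mul, map_mul, hfixU _ ha, hT, hd, hfixU _ hb]

end CfsgLib.SmallReeAut
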