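import Cfsg.Agent.Lib.SmallReeAut.Main
import Mathlib.Algebra.Ring.Equiv

/-!
# The outer automorphism group of a small Ree group
-/

set_option autoImplicit false
set_option linter.unusedSectionVars false

namespace CfsgLib.SmallReeAut

open Cfsg.Lie CfsgLib.ChevStr CfsgLib.Twisted CfsgLib.SmallRee CfsgLib.SmallReeMult
open scoped MatrixGroups Pointwise

variable {K : Type*} [Field K] [Fintype K] [CharP K 3] {m : ℕ}
  (hm : 1 ≤ m) (hn : Fintype.card K = 3 * (3 ^ m * 3 ^ m))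

set_option quotPrecheck false
local notation "𝔾" => ↥(twistedG2 K (3 ^ m))
local notation "U" => (Uin (K := K) (m := m))

/-- An automorphism in normal position. -/
def Normalised (α : MulAut 𝔾) : Prop :=
  (∀ a ∈ U, α a ∈ U) ∧ (∀ l, ∃ k, α (tE hn l) = tE hn k) ∧ α (uE 0 0 1) = uE 0 0 1

include hn

theorem eq_one_of_conj' {g x : 𝔾} (hgB : (g : GL chevG2.Idx K) ∉ B1 K m) (hx : x ∈ U)
    (hc : g * x * g⁻¹ ∈ U) : x = 1 :=
  Subtype.ext (eq_one_of_conj hn g.2 hgB hx hc)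

include hm

theorem exists_normalised (α : MulAut 𝔾) : ∃ g : 𝔾, Normalised hn (MulAut.conj g * α) := by
  classical
  haveI : Fact (Nat.Prime 3) := ⟨Nat.prime_three⟩
  obtain ⟨S, hS⟩ := exists_sylow_eq (K := K) hn
  obtain ⟨g, hg⟩ := MulAction.exists_smul_eq 𝔾 (α • S) S
  have hβ : (MulAut.conj g * α) • S = S := by rw [mul_smul]; exact hg
  set β := MulAut.conj g * α with hβdef
  have hU : ∀ a ∈ U, β a ∈ U := by
    intro a ha
    have h1 : β • a ∈ ((β • S : Sylow 3 𝔾) : Subgroup 𝔾) :=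
      Subgroup.smul_mem_pointwise_smul a β _ (by rw [hS]; exact ha)
    rw [hβ, hS] at h1
    exact h1
  obtain ⟨t₀, hgen, ht₀⟩ := exists_big hm hn
  have hu1 : (uE 0 0 1 : 𝔾) ≠ 1 := fun h => one_ne_zero (uE_eq_one.1 h).2.2
  have hdB : ((β (tE hn t₀) : 𝔾) : GL chevG2.Idx K) ∈ B1 K m := by
    by_contra hB
    refine hu1 (β.injective ((eq_one_of_conj' hn hB (hU _ (uE_mem 0 0 1)) ?_).trans (map_one β).symm))
    rw [← map_mul, ← map_inv, ← map_mul]
    exact hU _ (tE_conj_mem hn t₀ (uE_mem 0 0 1))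
  obtain ⟨a, ha, y, hy⟩ := mem_B_form hn hdB
  -- `β` permutes `U`
  have hsurU : ∀ b ∈ U, ∃ c ∈ U, β c = b := by
    intro b hb
    let F : ↥U → ↥U := fun v => ⟨β v, hU v v.2⟩
    have hF : Function.Injective F := fun v w h => Subtype.ext (β.injective (congrArg Subtype.val h))
    obtain ⟨c, hc⟩ := (Finite.injective_iff_bijective.1 hF).2 ⟨b, hb⟩
    exact ⟨c, c.2, congrArg Subtype.val hc⟩
  have hy2 : y * y ≠ 1 := by
    intro h
    have hmem : β (tE hn (t₀ * t₀)) ∈ U := by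
      rw [← tE_mul, map_mul, hy, show a * tE hn y * (a * tE hn y) =
        a * (tE hn y * a * (tE hn y)⁻¹) * (tE hn y * tE hn y) by group, tE_mul, h, tE_one, mul_one]
      exact mul_mem ha (tE_conj_mem hn y ha)
    obtain ⟨c, hc, hcb⟩ := hsurU _ hmem
    have e := β.injective hcb
    have := (decomp_unique hn hc (one_mem U) (l := 1) (l' := t₀ * t₀)
      (by rw [tE_one, mul_one, one_mul, e])).2
    exact ht₀ this.symm
  have hy1 : y ≠ 1 := fun h => hy2 (by rw [h, mul_one])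
  have hym : y ≠ -1 := fun h => hy2 (by rw [h, neg_mul_neg, mul_one])
  obtain ⟨v, hv, hvy⟩ : ∃ v ∈ U, v * (tE hn y * v⁻¹ * (tE hn y)⁻¹) = a := by
    let F : ↥U → ↥U := fun v => ⟨v * (tE hn y * (v : 𝔾)⁻¹ * (tE hn y)⁻¹), mul_mem v.2 (tE_conj_mem hn y (inv_mem v.2))⟩
    have hF : Function.Injective F := by
      intro v w h
      have e : (v : 𝔾) * (tE hn y * (v : 𝔾)⁻¹ * (tE hn y)⁻¹) = w * (tE hn y * (w : 𝔾)⁻¹ * (tE hn y)⁻¹) :=
        congrArg Subtype.val h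
      have hfix : tE hn y * ((w : 𝔾)⁻¹ * v) * (tE hn y)⁻¹ = (w : 𝔾)⁻¹ * v := by
        calc tE hn y * ((w : 𝔾)⁻¹ * v) * (tE hn y)⁻¹
            = (w : 𝔾)⁻¹ * ((w : 𝔾) * (tE hn y * (w : 𝔾)⁻¹ * (tE hn y)⁻¹)) * (tE hn y * v * (tE hn y)⁻¹) := by group
          _ = _ := by rw [← e]; group
      have := eq_one_of_fixed hn (mul_mem (inv_mem w.2) v.2) hfix hy1 hym
      exact Subtype.ext (inv_mul_eq_one.1 this).symm
    obtain ⟨v, hv⟩ := (Finite.injective_iff_bijective.1 hF).2 ⟨a, ha⟩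
    exact ⟨v, v.2, congrArg Subtype.val hv⟩
  set γ := MulAut.conj v⁻¹ * β with hγdef
  have hUγ : ∀ b ∈ U, γ b ∈ U := by
    intro b hb
    show v⁻¹ * β b * v⁻¹⁻¹ ∈ U
    exact mul_mem (mul_mem (inv_mem hv) (hU b hb)) (inv_mem (inv_mem hv))
  have hγ0 : γ (tE hn t₀) = tE hn y := by
    show v⁻¹ * β (tE hn t₀) * v⁻¹⁻¹ = tE hn y
    rw [hy, ← hvy]; group
  have hTγ : ∀ l, ∃ k, γ (tE hn l) = tE hn k := by
    intro l
    obtain ⟨i, rfl⟩ : ∃ i : ℕ, t₀ ^ i = l := by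
      have := hgen l
      rw [← mem_powers_iff_mem_zpowers] at this
      exact Submonoid.mem_powers_iff _ _ |>.1 this
    exact ⟨y ^ i, by rw [← tE_pow, map_pow, hγ0, tE_pow]⟩
  obtain ⟨d, hd0, hd⟩ : ∃ d, d ≠ 0 ∧ γ (uE 0 0 1) = uE 0 0 d := by
    obtain ⟨s, hs⟩ := exists_root hn (1 : K)
    have e : (uE 0 0 1 : 𝔾) = uE s 0 0 ^ 3 := by rw [cube_eq hn, ← hs]
    obtain ⟨t, b, c, he⟩ := mem_U_form hn (hUγ _ (uE_mem s 0 0))
    have h1 : γ (uE 0 0 1) = uE 0 0 (-t ^ (3 * 3 ^ m + 2)) := by rw [e, map_pow, he, cube_eq hn]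
    refine ⟨_, fun h => hu1 (γ.injective ?_), h1⟩
    rw [h1, h, uE_zero, map_one]
  obtain ⟨l₀, hl₀⟩ := exists_npow hn (inv_ne_zero hd0)
  refine ⟨tE hn l₀ * v⁻¹ * g, ?_⟩
  have hEq : MulAut.conj (tE hn l₀ * v⁻¹ * g) * α = MulAut.conj (tE hn l₀) * γ := by
    simp only [hγdef, hβdef, map_mul, mul_assoc]
  rw [hEq]
  refine ⟨fun b hb => tE_conj_mem hn _ (hUγ b hb), fun l => ?_, ?_⟩
  · obtain ⟨k, hk⟩ := hTγ l
    refine ⟨k, ?_⟩
    show tE hn l₀ * γ (tE hn l) * (tE hn l₀)⁻¹ = tE hn k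
    rw [hk, tE_mul, mul_comm l₀ k, ← tE_mul, mul_inv_cancel_right]
  · show tE hn l₀ * γ (uE 0 0 1) * (tE hn l₀)⁻¹ = uE 0 0 1
    rw [hd, tE_conj, mul_zero, mul_zero, hl₀, inv_mul_cancel₀ hd0]

theorem normalised_eq_fieldAut {α : MulAut 𝔾} (hα : Normalised hn α) :
    ∃ σ : K ≃+* K, α = fieldAut σ := by
  obtain ⟨hU, hT, h1⟩ := hα
  choose χ hχ using hT
  have hZ : ∀ c, ∃ d, α (uE 0 0 c) = uE 0 0 d := by
    intro c
    obtain ⟨s, hs⟩ := exists_root hn c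
    obtain ⟨t, a, b, he⟩ := mem_U_form hn (hU _ (uE_mem s 0 0))
    refine ⟨-t ^ (3 * 3 ^ m + 2), ?_⟩
    rw [show (uE 0 0 c : 𝔾) = uE s 0 0 ^ 3 by rw [cube_eq hn, ← hs], map_pow, he, cube_eq hn]
  choose φ hφ using hZ
  have hφ1 : φ 1 = 1 := (uE_inj ((hφ 1).symm.trans h1)).2.2
  have hφadd : ∀ b c, φ (b + c) = φ b + φ c := by
    intro b c
    have := map_mul α (uE 0 0 b : 𝔾) (uE 0 0 c)
    rw [hφ b, hφ c, uE_mid_add, uE_mid_add, add_zero, hφ] at this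
    exact (uE_inj this).2.2
  have hφ0 : φ 0 = 0 := by
    have := hφ 0
    rw [uE_zero, map_one] at this
    exact (uE_eq_one.1 this.symm).2.2
  have hrel : ∀ (l : Kˣ) c, φ ((l : K) ^ (3 * 3 ^ m + 2) * c) = (χ l : K) ^ (3 * 3 ^ m + 2) * φ c := by
    intro l c
    have := congrArg α (tE_conj hn l 0 0 c)
    rw [map_mul, map_mul, map_inv, hχ, hφ, tE_conj, mul_zero, mul_zero, mul_zero, mul_zero, hφ] at this
    exact (uE_inj this).2.2.symm
  have hχn : ∀ l : Kˣ, φ ((l : K) ^ (3 * 3 ^ m + 2)) = (χ l : K) ^ (3 * 3 ^ m + 2) := fun l => by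
    simpa [hφ1] using hrel l 1
  have hφmul : ∀ s t, φ (s * t) = φ s * φ t := by
    intro s t
    rcases eq_or_ne s 0 with rfl | hs
    · simp [hφ0]
    obtain ⟨l, rfl⟩ := exists_npow hn hs
    rw [hrel, hχn]
  let φh : K →+* K :=
    { toFun := φ
      map_zero' := hφ0
      map_one' := hφ1
      map_add' := hφadd
      map_mul' := hφmul }
  let σ : K ≃+* K := RingEquiv.ofBijective φh (Finite.injective_iff_bijective.1 φh.injective)
  have hσ : ∀ b, σ b = φ b := fun b => rfl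
  have hχσ : ∀ l : Kˣ, χ l = Units.map σ.toRingHom.toMonoidHom l := by
    intro l
    refine npow_inj hn ?_
    rw [← hχn, ← hσ, map_pow]
    rfl
  refine ⟨σ, ?_⟩
  have : (fieldAut σ)⁻¹ * α = 1 := by
    refine aut_eq_one hm hn _ (fun a ha => ?_) (fun l => ?_) (fun c => ?_)
    · obtain ⟨t, u, v, he⟩ := mem_U_form hn (hU a ha)
      show (fieldAut σ)⁻¹ (α a) ∈ U
      rw [he, ← map_inv, fieldAut_uE]
      exact uE_mem _ _ _
    · show (fieldAut σ).symm (α (tE hn l)) = tE hn l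
      rw [MulEquiv.symm_apply_eq, hχ, fieldAut_tE, hχσ]
    · show (fieldAut σ).symm (α (uE 0 0 c)) = uE 0 0 c
      rw [MulEquiv.symm_apply_eq, hφ, fieldAut_uE, map_zero, hσ]
  exact (inv_mul_eq_one.1 this).symm

theorem eq_one_of_fieldAut_inner {σ : K ≃+* K} {g : 𝔾} (h : fieldAut σ = MulAut.conj g) : σ = 1 := by
  have hu1 : (uE 0 0 1 : 𝔾) ≠ 1 := fun h => one_ne_zero (uE_eq_one.1 h).2.2
  have e1 : g * uE 0 0 1 * g⁻¹ = uE 0 0 1 := by
    have := fieldAut_uE σ (0 : K) 0 1 (m := m)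
    rw [h, map_zero, map_one] at this
    exact this
  have hgB : (g : GL chevG2.Idx K) ∈ B1 K m := by
    by_contra hgB
    exact hu1 (eq_one_of_conj' hn hgB (uE_mem 0 0 1) (by rw [e1]; exact uE_mem 0 0 1))
  obtain ⟨a, ha, l, rfl⟩ := mem_B_form hn hgB
  refine RingEquiv.ext fun t => ?_
  show σ t = t
  rcases eq_or_ne t 0 with rfl | ht
  · exact map_zero σ
  set x : Kˣ := Units.mk0 t ht
  have e2 : a * tE hn l * tE hn x * (a * tE hn l)⁻¹ = tE hn (Units.map σ.toRingHom.toMonoidHom x) := by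
    have := fieldAut_tE hn σ x
    rw [h] at this
    exact this
  have e3 : a * (tE hn x * a⁻¹ * (tE hn x)⁻¹) * tE hn x =
      1 * tE hn (Units.map σ.toRingHom.toMonoidHom x) := by
    rw [one_mul, ← e2]
    rw [show a * tE hn l * tE hn x * (a * tE hn l)⁻¹ = a * (tE hn l * tE hn x * (tE hn l)⁻¹) * a⁻¹ by group,
      tE_mul, mul_comm l x, ← tE_mul, mul_inv_cancel_right]
    group
  have := (decomp_unique hn (mul_mem ha (tE_conj_mem hn x (inv_mem ha))) (one_mem U) e3).2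
  exact (congrArg Units.val this).symm

theorem card_out : Nat.card (Cfsg.Out 𝔾) = Nat.card (K ≃+* K) := by
  symm
  refine Nat.card_eq_of_bijective
    (fun σ => (QuotientGroup.mk (fieldAut σ) : Cfsg.Out 𝔾)) ⟨?_, ?_⟩
  · intro σ τ h
    obtain ⟨g, hg⟩ := (QuotientGroup.eq.1 h : (fieldAut σ)⁻¹ * fieldAut τ ∈ _)
    rw [← map_inv, ← map_mul] at hg
    exact inv_mul_eq_one.1 (eq_one_of_fieldAut_inner hm hn hg.symm)
  · intro q
    induction q using QuotientGroup.induction_on with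
    | H α =>
      obtain ⟨g, hg⟩ := exists_normalised hm hn α
      obtain ⟨σ, hσ⟩ := normalised_eq_fieldAut hm hn hg
      refine ⟨σ, QuotientGroup.eq.2 ?_⟩
      have hmem : (MulAut.conj g)⁻¹ ∈ Cfsg.Inn 𝔾 := inv_mem ⟨g, rfl⟩
      have hc := (Cfsg.innNormal 𝔾).conj_mem _ hmem α⁻¹
      rwa [inv_inv, mul_assoc, ← mul_assoc α⁻¹, ← mul_inv_rev, hσ] at hc

end CfsgLib.SmallReeAut
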